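import Groth.Prelude.Def_KZero2
import Mathlib.CategoryTheory.Shift.Basic
import Mathlib.CategoryTheory.Limits.Preserves.Shapes.Products
import Mathlib.CategoryTheory.Triangulated.Pretriangulated
import Mathlib.Tactic.Ring

set_option autoImplicit false
universe v u
open CategoryTheory CategoryTheory.Limits CategoryTheory.Pretriangulated

namespace Groth.Agent.KTri

variable {C : Type u} [Category.{v} C] [Preadditive C] [HasZeroObject C]
  [HasShift C ℤ] [∀ n : ℤ, (shiftFunctor C n).Additive] [Pretriangulated C]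

open scoped ZeroObject

lemma cl_tri (T : Triangle C) (hT : T ∈ distinguishedTriangles) :
    KZero.clTri T.obj₂ = KZero.clTri T.obj₁ + KZero.clTri T.obj₃ := by
  unfold KZero.clTri
  rw [← QuotientAddGroup.mk_add, eq_comm, QuotientAddGroup.eq]
  refine AddSubgroup.subset_closure ⟨T, trivial, trivial, trivial, hT, ?_⟩
  abel

lemma cl_zero' : KZero.clTri (0 : C) = 0 := by
  have h := cl_tri _ (contractible_distinguished (0 : C))
  simpa [contractibleTriangle] using h

lemma cl_iso {X Y : C} (e : X ≅ Y) : KZero.clTri X = KZero.clTri Y := by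
  have hT : Triangle.mk e.hom (0 : Y ⟶ (0 : C)) 0 ∈ distinguishedTriangles := by
    refine isomorphic_distinguished _ (contractible_distinguished X) _ ?_
    refine Triangle.isoMk _ _ (Iso.refl _) e.symm (Iso.refl _) ?_ ?_ ?_ <;> dsimp [contractibleTriangle, Triangle.mk] <;> simp
  have h := cl_tri _ hT
  simp only [Triangle.mk_obj₁, Triangle.mk_obj₂, Triangle.mk_obj₃, cl_zero', add_zero] at h
  exact h.symm

lemma cl_shift_one (X : C) : KZero.clTri (X⟦(1 : ℤ)⟧) = - KZero.clTri X := by
  have h := cl_tri _ (rot_of_distTriang _ (contractible_distinguished X))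
  simp only [contractibleTriangle, Triangle.rotate, Triangle.mk_obj₁, Triangle.mk_obj₂,
    Triangle.mk_obj₃, cl_zero'] at h
  exact (neg_eq_of_add_eq_zero_right h.symm).symm

lemma cl_shift_even (X : C) (n : ℤ) : KZero.clTri (X⟦2 * n⟧) = KZero.clTri X := by
  have key : ∀ (Y : C) (a : ℤ), KZero.clTri (Y⟦a + 1⟧) = - KZero.clTri (Y⟦a⟧) := fun Y a => by
    rw [cl_iso ((shiftFunctorAdd C a 1).app Y)]
    exact cl_shift_one _
  induction n using Int.induction_on with
  | zero => rw [mul_zero]; exact cl_iso ((shiftFunctorZero C ℤ).app X)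
  | succ k ih =>
    rw [show 2 * ((k : ℤ) + 1) = 2 * k + 1 + 1 by ring, key, key, neg_neg]; exact ih
  | pred k ih =>
    rw [show 2 * (-(k : ℤ)) = 2 * (-(k : ℤ) - 1) + 1 + 1 by ring, key, key, neg_neg] at ih; exact ih

lemma cl_biprod (X Y : C) [HasBinaryBiproduct X Y] :
    KZero.clTri (X ⊞ Y) = KZero.clTri X + KZero.clTri Y :=
  cl_tri _ (binaryBiproductTriangle_distinguished X Y)

theorem swindle (L : C) (n : ℤ)
    [HasCoproduct (fun i : ℕ => (shiftFunctor C (2 * n * (i : ℤ))).obj L)] :
    KZero.clTri L = 0 := by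
  set f := fun i : ℕ => (shiftFunctor C (2 * n * (i : ℤ))).obj L with hf
  let S := shiftFunctor C (2 * n)
  let hT : IsColimit (Cofan.mk (S.obj (∐ f)) (fun i => S.map (Sigma.ι f i))) :=
    isColimitCofanMkObjOfIsColimit S f _ (coproductIsCoproduct f)
  let e : ∀ i : ℕ, f (i + 1) ≅ S.obj (f i) := fun i =>
    (shiftFunctorAdd' C (2 * n * (i : ℤ)) (2 * n) (2 * n * ((i + 1 : ℕ) : ℤ)) (by push_cast; ring)).app L
  haveI : HasBinaryBiproduct (f 0) (S.obj (∐ f)) := inferInstance
  let c : Cofan f := Cofan.mk (f 0 ⊞ S.obj (∐ f))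
    (fun i => match i with
      | 0 => biprod.inl
      | i + 1 => (e i).hom ≫ S.map (Sigma.ι f i) ≫ biprod.inr)
  let hc : IsColimit c := mkCofanColimit c
    (fun t => biprod.desc (t.inj 0)
      (hT.desc (Cofan.mk t.pt fun i => (e i).inv ≫ t.inj (i + 1))))
    (fun t i => by
      cases i with
      | zero => simp [c]
      | succ i =>
        have := hT.fac (Cofan.mk t.pt fun i => (e i).inv ≫ t.inj (i + 1)) ⟨i⟩
        simp only [Cofan.mk_ι_app] at this
        simp [c, this])
    (fun t m hm => by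
      apply biprod.hom_ext'
      · simpa [c] using hm 0
      · rw [biprod.inr_desc]
        apply hT.hom_ext
        rintro ⟨i⟩
        rw [hT.fac]
        have := hm (i + 1)
        simp only [c, Cofan.mk_pt, Cofan.inj, Cofan.mk_ι_app, Category.assoc] at this ⊢
        rw [← this]; simp)
  have h1 : KZero.clTri (∐ f) = KZero.clTri (f 0) + KZero.clTri (S.obj (∐ f)) := by
    exact (cl_iso ((coproductIsCoproduct f).coconePointUniqueUpToIso hc)).trans (cl_biprod _ _)
  rw [cl_shift_even, eq_comm, add_eq_right] at h1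
  rw [← h1, hf]
  exact cl_iso ((shiftFunctorZero C ℤ).app L ≪≫ Iso.refl _) |>.symm.trans (cl_iso (eqToIso (by simp)))

end Groth.Agent.KTri
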